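import Cfsg.Agent.EqLemmas
import Cfsg.Agent.Lib.Cores.Frattini
import Cfsg.Agent.Lib.OrbitPower.TwoGroup
import Cfsg.Agent.Lib.PGroup.Basic

/-!
# Generators of a 2-group acting on a group of odd order (owner: helper76)

* `bound`: if a 2-group acts faithfully on an abelian group `V` of odd order, then `|P/Φ(P)| ≤ |V|`,
  and `2|P/Φ(P)| ≤ |V|` when `|V| > 3`
-/

open scoped commutatorElement

namespace Cfsg.Agent.TwoGroupRank

universe u

variable {P : Type*} [Group P] [Finite P]

theorem index_le_mul (hP : IsPGroup 2 P) (K : Subgroup P) [K.Normal] :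
    (frattini P).index ≤ (frattini (P ⧸ K)).index * (frattini K).index := by
  haveI : Fact (Nat.Prime 2) := ⟨Nat.prime_two⟩
  set q := QuotientGroup.mk' K
  have hq : Function.Surjective q := QuotientGroup.mk'_surjective K
  haveI : Group.IsNilpotent P := hP.isNilpotent
  haveI : ((frattini P).map q).Normal := (inferInstance : (frattini P).Normal).map _ hq
  have h1 : frattini (P ⧸ K) ≤ (frattini P).map q := by
    refine Cores.frattini_le_of_pGroup (p := 2) _ ?_ fun y => ?_
    · rw [commutator_def, ← Subgroup.map_top_of_surjective q hq, ← Subgroup.map_commutator]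
      exact Subgroup.map_mono Cores.commutator_le_frattini
    · obtain ⟨x, rfl⟩ := hq y
      exact ⟨x ^ 2, Cores.pow_mem_frattini hP x, map_pow q x 2⟩
  have h2 : (frattini P ⊔ K).index ≤ (frattini (P ⧸ K)).index := by
    have : (frattini P ⊔ K).index = ((frattini P).map q).index := by
      rw [← Subgroup.index_comap_of_surjective _ hq, Subgroup.comap_map_eq, QuotientGroup.ker_mk']
    rw [this]
    exact Nat.le_of_dvd (Nat.pos_of_ne_zero Subgroup.index_ne_zero_of_finite) (Subgroup.index_dvd_of_le h1)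
  have h3 : (frattini P).relIndex K ≤ (frattini K).index :=
    Nat.le_of_dvd (Nat.pos_of_ne_zero Subgroup.index_ne_zero_of_finite) (Subgroup.index_dvd_of_le
      fun x hx => Cores.frattini_map_subtype_le K (Subgroup.mem_map_of_mem _ hx))
  rw [← Subgroup.relIndex_mul_index (le_sup_left : frattini P ≤ frattini P ⊔ K), sup_comm,
    Subgroup.relIndex_sup_right, mul_comm, sup_comm]
  exact Nat.mul_le_mul h2 h3

theorem index_le_of_generators (hP : IsPGroup 2 P) (T : Finset P) (hT : Subgroup.closure (T : Set P) = ⊤) :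
    (frattini P).index ≤ 2 ^ T.card := by
  haveI : Fact (Nat.Prime 2) := ⟨Nat.prime_two⟩
  obtain ⟨j, hj, he⟩ := Cores.index_frattini_le_of_closure hP T
  rw [he, hT, sup_top_eq, Subgroup.index_top, mul_one]
  exact Nat.pow_le_pow_right two_pos hj

theorem index_le_two_of_cyclic (hP : IsPGroup 2 P) [IsCyclic P] : (frattini P).index ≤ 2 := by
  obtain ⟨g, hg⟩ := IsCyclic.exists_generator (α := P)
  simpa using index_le_of_generators hP {g} (by
    rw [Finset.coe_singleton, ← Subgroup.zpowers_eq_closure]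
    exact (Subgroup.eq_top_iff' _).mpr hg)

section action

variable {V : Type*} [CommGroup V] [Finite V]

/-- Restriction of an action to an invariant subgroup. -/
def res (φ : P →* MulAut V) (U : Subgroup V) (hU : ∀ x, ∀ v ∈ U, φ x v ∈ U) : P →* MulAut U where
  toFun x :=
    { toFun := fun v => ⟨φ x v, hU x v v.2⟩
      invFun := fun v => ⟨φ x⁻¹ v, hU x⁻¹ v v.2⟩
      left_inv := fun v => Subtype.ext (by
        show φ x⁻¹ (φ x v) = v
        rw [← MulAut.mul_apply, ← map_mul, inv_mul_cancel, map_one, MulAut.one_apply])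
      right_inv := fun v => Subtype.ext (by
        show φ x (φ x⁻¹ v) = v
        rw [← MulAut.mul_apply, ← map_mul, mul_inv_cancel, map_one, MulAut.one_apply])
      map_mul' := fun v w => Subtype.ext (map_mul (φ x) _ _) }
  map_one' := MulEquiv.ext fun v => Subtype.ext (by simp)
  map_mul' := fun x y => MulEquiv.ext fun v => Subtype.ext (by simp)

omit [Finite P] [Finite V] in
theorem res_eq_one_iff {φ : P →* MulAut V} {U : Subgroup V} {hU} {x : P} :
    res φ U hU x = 1 ↔ ∀ v ∈ U, φ x v = v := by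
  constructor
  · exact fun h v hv => congrArg Subtype.val (MulEquiv.congr_fun h ⟨v, hv⟩)
  · exact fun h => MulEquiv.ext fun v => Subtype.ext (h v v.2)

omit [Finite V] in
/-- `v ↦ v ^ k` splits the identity for an involutory automorphism of an abelian group of odd order. -/
theorem split_involution (hodd : Odd (Nat.card V)) (σ : MulAut V) (hσ : ∀ v, σ (σ v) = v) :
    ∃ U W : Subgroup V, (∀ v, v ∈ U ↔ σ v = v) ∧ (∀ v, v ∈ W ↔ σ v = v⁻¹) ∧ U ⊓ W = ⊥ ∧ U ⊔ W = ⊤ := by
  obtain ⟨m, hm⟩ := hodd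
  refine ⟨σ.toMonoidHom.eqLocus (MonoidHom.id V), σ.toMonoidHom.eqLocus (invMonoidHom : V →* V),
    fun v => Iff.rfl, fun v => Iff.rfl, eq_bot_iff.mpr fun v hv => ?_, eq_top_iff.mpr fun v _ => ?_⟩
  · have h1 : σ v = v := hv.1
    have h2 : σ v = v⁻¹ := hv.2
    have h3 : v ^ 2 = 1 := by rw [sq]; exact mul_eq_one_iff_eq_inv.mpr (h1.symm.trans h2)
    refine Subgroup.mem_bot.mpr ?_
    have := pow_card_eq_one' (x := v)
    rwa [hm, pow_succ, pow_mul, h3, one_pow, one_mul] at this
  · have hsq : v = (v * σ v) ^ (m + 1) * (v * (σ v)⁻¹) ^ (m + 1) := by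
      rw [← mul_pow, mul_mul_mul_comm, mul_inv_cancel, mul_one, ← sq, ← pow_mul,
        show 2 * (m + 1) = (2 * m + 1) + 1 by ring, pow_succ, ← hm, pow_card_eq_one', one_mul]
    rw [hsq]
    refine Subgroup.mul_mem_sup (pow_mem ?_ _) (pow_mem ?_ _)
    · show σ (v * σ v) = v * σ v
      rw [map_mul, hσ, mul_comm]
    · show σ (v * (σ v)⁻¹) = (v * (σ v)⁻¹)⁻¹
      rw [map_mul, map_inv, hσ, mul_inv_rev, inv_inv]

omit [Finite V] in
theorem card_mul {U W : Subgroup V} (hi : U ⊓ W = ⊥) (hs : U ⊔ W = ⊤) :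
    Nat.card U * Nat.card W = Nat.card V :=
  (Subgroup.isComplement'_of_disjoint_and_mul_eq_univ (disjoint_iff.mpr hi)
    (by rw [← Subgroup.normal_mul U W, hs, Subgroup.coe_top])).card_mul_card

end action

/-- The bound for one group `V`. -/
def Bound (n : ℕ) (f : ℕ) : Prop := f ≤ n ∧ (3 < n → 2 * f ≤ n) ∧ (n ≤ 3 → f ≤ 2)

/-- The statement for all groups of order less than `n`. -/
def Below (n : ℕ) : Prop :=
  ∀ (P V : Type u) [Group P] [CommGroup V] [Finite P] [Finite V], Nat.card V < n → Odd (Nat.card V) →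
    IsPGroup 2 P → ∀ φ : P →* MulAut V, Function.Injective φ → Bound (Nat.card V) (frattini P).index

theorem split_bound {n : ℕ} (hb : Below.{u} n) {P V : Type u} [Group P] [CommGroup V] [Finite P] [Finite V]
    (hn : Nat.card V ≤ n) (hodd : Odd (Nat.card V)) (hP : IsPGroup 2 P) (φ : P →* MulAut V) (hφ : Function.Injective φ)
    (U W : Subgroup V) (hU : ∀ x, ∀ v ∈ U, φ x v ∈ U) (hW : ∀ x, ∀ v ∈ W, φ x v ∈ W)
    (hU1 : U ≠ ⊥) (hW1 : W ≠ ⊥) (hi : U ⊓ W = ⊥) (hs : U ⊔ W = ⊤) :
    ∃ a b, Bound (Nat.card U) a ∧ Bound (Nat.card W) b ∧ (frattini P).index ≤ a * b ∧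
      Nat.card U * Nat.card W = Nat.card V := by
  set ρ := res φ U hU
  have hc := card_mul hi hs
  have h1 : 1 < Nat.card U := (Subgroup.one_lt_card_iff_ne_bot U).mpr hU1
  have h2 : 1 < Nat.card W := (Subgroup.one_lt_card_iff_ne_bot W).mpr hW1
  have hoU : Odd (Nat.card U) := hodd.of_dvd_nat ⟨_, hc.symm⟩
  have hoW : Odd (Nat.card W) := hodd.of_dvd_nat ⟨Nat.card U, by rw [mul_comm, hc]⟩
  refine ⟨_, _, hb (P ⧸ ρ.ker) U (by nlinarith) hoU (hP.to_quotient _) (QuotientGroup.kerLift ρ)
    (QuotientGroup.kerLift_injective ρ), hb ρ.ker W (by nlinarith) hoW (hP.to_subgroup _)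
    ((res φ W hW).comp ρ.ker.subtype) ?_, index_le_mul hP ρ.ker, hc⟩
  refine (injective_iff_map_eq_one _).mpr fun x hx => Subtype.ext ((map_eq_one_iff φ hφ).mp ?_)
  refine MulEquiv.ext fun v => ?_
  obtain ⟨a, ha, b, hb', rfl⟩ := Subgroup.mem_sup.mp (show v ∈ U ⊔ W by rw [hs]; trivial)
  rw [map_mul, MulAut.one_apply]
  exact congrArg₂ (· * ·) ((res_eq_one_iff (hU := hU)).mp x.2 a ha) ((res_eq_one_iff (hU := hW)).mp hx b hb')

theorem bound_of_below {n : ℕ} (hb : Below.{u} n) {P V : Type u} [Group P] [CommGroup V] [Finite P] [Finite V]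
    (hn : Nat.card V ≤ n) (hodd : Odd (Nat.card V)) (hP : IsPGroup 2 P) (φ : P →* MulAut V)
    (hφ : Function.Injective φ) : Bound (Nat.card V) (frattini P).index := by
  haveI : Fact (Nat.Prime 2) := ⟨Nat.prime_two⟩
  by_cases hp : (Nat.card V).Prime
  · haveI := Fact.mk hp
    haveI : IsCyclic V := isCyclic_of_prime_card rfl
    haveI : IsCyclic (ZMod (Nat.card V))ˣ := inferInstance
    haveI : IsCyclic (MulAut V) := isCyclic_of_surjective
      (IsCyclic.mulAutMulEquiv V).symm.toMonoidHom (IsCyclic.mulAutMulEquiv V).symm.surjective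
    haveI : IsCyclic P := isCyclic_of_injective φ hφ
    have := index_le_two_of_cyclic hP
    have := hp.two_le
    obtain ⟨m, hm⟩ := hodd
    exact ⟨by omega, fun h3 => by omega, fun h3 => by omega⟩
  by_cases h1 : Nat.card V = 1
  · haveI : Subsingleton V := (Nat.card_eq_one_iff_unique.mp h1).1
    haveI : Subsingleton P := ⟨fun a b => hφ (MulEquiv.ext fun v => Subsingleton.elim _ _)⟩
    have : (frattini P).index = 1 := Nat.eq_one_of_dvd_one
      (Nat.card_of_subsingleton (1 : P) ▸ (frattini P).index_dvd_card)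
    exact ⟨by omega, fun h3 => by omega, fun h3 => by omega⟩
  have h9 : 9 ≤ Nat.card V := by
    by_contra hlt
    obtain ⟨m, hm⟩ := hodd
    have : m < 4 := by omega
    interval_cases m <;> simp_all +decide
  refine (?_ : 2 * (frattini P).index ≤ Nat.card V) |> fun h => ⟨by omega, fun _ => h, fun _ => by omega⟩
  -- product with a factor of order three
  have hsmall : ∀ u w a b : ℕ, Odd u → Odd w → 1 < u → 1 < w → Bound u a → Bound w b → u * w = Nat.card V →
      (frattini P).index ≤ a * b → 2 * (frattini P).index ≤ Nat.card V := by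
    intro u w a b hu hw hu1 hw1 ha hb' hc hle
    by_cases h : 3 < u
    · have := ha.2.1 h; have := hb'.1; nlinarith
    by_cases h' : 3 < w
    · have := hb'.2.1 h'; have := ha.1; nlinarith
    obtain ⟨m, rfl⟩ := hu; obtain ⟨m', rfl⟩ := hw
    obtain ⟨rfl, rfl⟩ : m = 1 ∧ m' = 1 := by omega
    have h4 : (frattini P).index ≤ 4 := hle.trans (Nat.mul_le_mul (ha.2.2 (by omega)) (hb'.2.2 (by omega)))
    omega
  by_cases hno : OrbitPower.NoFour P
  · have : (frattini P).index ≤ 4 := by
      rcases OrbitPower.cyclic_or_index_two hP hno with hc | ⟨a, g, m, j, -, -, hidx, hg, -, -⟩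
      · exact le_trans (index_le_two_of_cyclic hP) (by norm_num)
      · classical
        refine le_trans (index_le_of_generators hP {a, g} ?_) (Nat.pow_le_pow_right two_pos Finset.card_le_two)
        rw [Finset.coe_pair]
        set C := Subgroup.closure ({a, g} : Set P) with hC
        have hle : Subgroup.zpowers a ≤ C := Subgroup.zpowers_le.mpr (Subgroup.subset_closure (Or.inl rfl))
        have hd := Subgroup.index_dvd_of_le hle
        rw [hidx] at hd
        rcases (Nat.dvd_prime Nat.prime_two).mp hd with h | h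
        · exact Subgroup.index_eq_one.mp h
        · exfalso
          refine hg ?_
          have := Subgroup.relIndex_mul_index hle
          rw [h, hidx] at this
          exact Subgroup.relIndex_eq_one.mp (Nat.eq_of_mul_eq_mul_right two_pos (this.trans (one_mul 2).symm))
            (Subgroup.subset_closure (Or.inr rfl))
    omega
  simp only [OrbitPower.NoFour, not_forall] at hno
  obtain ⟨E, hEn, hE4, hE2, -⟩ := hno
  haveI := hEn
  have hEne : E ≠ ⊥ := by
    intro h; rw [h] at hE4; simp at hE4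
  obtain ⟨z, hz, hz1⟩ := (E ⊓ Subgroup.center P).bot_or_exists_ne_one.resolve_left
    (PGroup.inf_center_ne_bot (p := 2) hP hEne)
  have hinv : ∀ x : P, x ^ 2 = 1 → ∀ v, φ x (φ x v) = v := fun x hx v => by
    rw [← MulAut.mul_apply, ← map_mul, ← sq, hx, map_one, MulAut.one_apply]
  obtain ⟨U, W, hU, hW, hUWi, hUWs⟩ := split_involution hodd (φ z) (hinv z (hE2 z hz.1))
  have hzc : ∀ x v, φ z (φ x v) = φ x (φ z v) := fun x v => by
    rw [← MulAut.mul_apply, ← map_mul, ← Subgroup.mem_center_iff.mp hz.2 x, map_mul, MulAut.mul_apply]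
  have hUinv : ∀ x, ∀ v ∈ U, φ x v ∈ U := fun x v hv => (hU _).mpr (by rw [hzc, (hU v).mp hv])
  have hWinv : ∀ x, ∀ v ∈ W, φ x v ∈ W := fun x v hv => (hW _).mpr (by rw [hzc, (hW v).mp hv, map_inv])
  have hW1 : W ≠ ⊥ := by
    intro h
    rw [h, sup_bot_eq] at hUWs
    refine hz1 (hφ ?_)
    rw [map_one]
    exact MulEquiv.ext fun v => by rw [(hU v).mp (hUWs ▸ Subgroup.mem_top v), MulAut.one_apply]
  by_cases hU1 : U ≠ ⊥
  · obtain ⟨a, b, ha, hb', hle, hc⟩ := split_bound hb hn hodd hP φ hφ U W hUinv hWinv hU1 hW1 hUWi hUWs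
    exact hsmall _ _ a b (hodd.of_dvd_nat ⟨_, hc.symm⟩) (hodd.of_dvd_nat ⟨_, (mul_comm _ _).trans hc |>.symm⟩)
      ((Subgroup.one_lt_card_iff_ne_bot U).mpr hU1) ((Subgroup.one_lt_card_iff_ne_bot W).mpr hW1) ha hb' hc hle
  rw [not_not] at hU1
  have hzinv : ∀ v, φ z v = v⁻¹ := fun v => (hW v).mp (by rw [hU1, bot_sup_eq] at hUWs; rw [hUWs]; trivial)
  -- a second involution of the four group
  obtain ⟨e, he, hez, he1⟩ : ∃ e ∈ E, e ≠ z ∧ e ≠ 1 := by
    by_contra h
    push Not at h
    have hsub : (E : Set P) ⊆ {z, 1} := fun e he => by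
      by_cases hh : e = z
      · exact Or.inl hh
      · exact Or.inr (h e he hh)
    have h2 := Set.ncard_le_ncard hsub
    rw [Set.ncard_pair hz1] at h2
    have : (E : Set P).ncard = 4 := (Nat.card_coe_set_eq _).symm.trans hE4
    omega
  have hz2 : z * z = 1 := by rw [← sq]; exact hE2 z hz.1
  have he2 : e * e = 1 := by rw [← sq]; exact hE2 e he
  have hEset : ∀ y ∈ E, y = 1 ∨ y = z ∨ y = e ∨ y = z * e := by
    intro y hy
    by_contra h
    push Not at h
    have hsub : ({1, z, e, z * e, y} : Set P) ⊆ E := by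
      rintro x (rfl | rfl | rfl | rfl | rfl)
      exacts [E.one_mem, hz.1, he, E.mul_mem hz.1 he, hy]
    have h5 := Set.ncard_le_ncard hsub
    have hne : z * e ≠ 1 := fun hh => hez (mul_left_cancel (hh.trans hz2.symm))
    have hne2 : z * e ≠ z := by simpa using he1
    have hne3 : z * e ≠ e := by simpa using hz1
    rw [Set.ncard_insert_of_notMem (by simp [hz1.symm, he1.symm, hne.symm, h.1.symm]),
      Set.ncard_insert_of_notMem (by simp [hez.symm, hne2.symm, h.2.1.symm]),
      Set.ncard_insert_of_notMem (by simp [hne3.symm, h.2.2.1.symm]), Set.ncard_pair h.2.2.2.symm] at h5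
    have : (E : Set P).ncard = 4 := (Nat.card_coe_set_eq _).symm.trans hE4
    omega
  have hconj : ∀ x : P, x * e * x⁻¹ = e ∨ x * e * x⁻¹ = z * e := by
    intro x
    rcases hEset _ (hEn.conj_mem e he x) with h | h | h | h
    · exact absurd (by simpa using h) he1
    · exfalso
      refine hez ?_
      have : e = x⁻¹ * z * x := by rw [← h]; group
      rw [this, mul_assoc, ← Subgroup.mem_center_iff.mp hz.2 x, inv_mul_cancel_left]
    · exact Or.inl h
    · exact Or.inr h
  obtain ⟨A, B, hA, hB, hABi, hABs⟩ := split_involution hodd (φ e) (hinv e (hE2 e he))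
  have hA1 : A ≠ ⊥ := by
    intro h
    rw [h, bot_sup_eq] at hABs
    exact hez (hφ (MulEquiv.ext fun v => by rw [hzinv v, (hB v).mp (hABs ▸ Subgroup.mem_top v)]))
  have hB1 : B ≠ ⊥ := by
    intro h
    rw [h, sup_bot_eq] at hABs
    refine he1 (hφ ?_)
    rw [map_one]
    exact MulEquiv.ext fun v => by rw [(hA v).mp (hABs ▸ Subgroup.mem_top v), MulAut.one_apply]
  set H := Subgroup.centralizer ({e} : Set P) with hH
  have hHmem : ∀ x, x ∈ H ↔ x * e = e * x := fun x => Subgroup.mem_centralizer_singleton_iff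
  have hcomm : ∀ x, x * e = e * x → ∀ v, φ e (φ x v) = φ x (φ e v) := fun x hx v => by
    rw [← MulAut.mul_apply, ← map_mul, ← hx, map_mul, MulAut.mul_apply]
  by_cases hHtop : H = ⊤
  · have hx : ∀ x, x * e = e * x := fun x => (hHmem x).mp (hHtop ▸ Subgroup.mem_top x)
    obtain ⟨a, b, ha, hb', hle, hc⟩ := split_bound hb hn hodd hP φ hφ A B
      (fun x v hv => (hA _).mpr (by rw [hcomm x (hx x), (hA v).mp hv]))
      (fun x v hv => (hB _).mpr (by rw [hcomm x (hx x), (hB v).mp hv, map_inv])) hA1 hB1 hABi hABs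
    exact hsmall _ _ a b (hodd.of_dvd_nat ⟨_, hc.symm⟩) (hodd.of_dvd_nat ⟨_, (mul_comm _ _).trans hc |>.symm⟩)
      ((Subgroup.one_lt_card_iff_ne_bot A).mpr hA1) ((Subgroup.one_lt_card_iff_ne_bot B).mpr hB1) ha hb' hc hle
  -- imprimitive case
  obtain ⟨x₀, -, hx₀⟩ := SetLike.exists_of_lt (lt_top_iff_ne_top.mpr hHtop)
  rw [hHmem] at hx₀
  have hx0e : x₀ * e * x₀⁻¹ = z * e := (hconj x₀).resolve_left fun h => hx₀ (mul_inv_eq_iff_eq_mul.mp h)
  have hze : ∀ x, x * z * x⁻¹ = z := fun x => by rw [Subgroup.mem_center_iff.mp hz.2 x, mul_inv_cancel_right]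
  have hidx : H.index = 2 := by
    refine Subgroup.index_eq_two_iff.mpr ⟨x₀, fun b => ?_⟩
    have hbx : b * x₀ ∈ H ↔ ¬ b ∈ H := by
      rw [hHmem, hHmem, ← mul_inv_eq_iff_eq_mul, ← mul_inv_eq_iff_eq_mul,
        show b * x₀ * e * (b * x₀)⁻¹ = b * (x₀ * e * x₀⁻¹) * b⁻¹ by group, hx0e,
        show b * (z * e) * b⁻¹ = (b * z * b⁻¹) * (b * e * b⁻¹) by group, hze]
      rcases hconj b with h | h <;> rw [h]
      · simp [hz1]
      · rw [← mul_assoc, hz2, one_mul]
        simp [hz1]
    by_cases hb0 : b ∈ H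
    · exact Or.inr ⟨hb0, fun h => hbx.mp h hb0⟩
    · exact Or.inl ⟨hbx.mpr hb0, hb0⟩
  haveI : H.Normal := Subgroup.normal_of_index_eq_two hidx
  have hxA : ∀ v ∈ A, φ x₀ v ∈ B := fun v hv => (hB _).mpr (by
    have he' : e * x₀ = x₀ * (z * e) := by
      have h1 : x₀ * (z * e) = (x₀ * z * x₀⁻¹) * (x₀ * e * x₀⁻¹) * x₀ := by group
      rw [h1, hze, hx0e, ← mul_assoc, hz2, one_mul]
    rw [← MulAut.mul_apply, ← map_mul, he', map_mul, MulAut.mul_apply, map_mul, MulAut.mul_apply,
      (hA v).mp hv, hzinv, map_inv])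
  have hxB : ∀ v ∈ B, φ x₀ v ∈ A := fun v hv => (hA _).mpr (by
    have he' : e * x₀ = x₀ * (z * e) := by
      have h1 : x₀ * (z * e) = (x₀ * z * x₀⁻¹) * (x₀ * e * x₀⁻¹) * x₀ := by group
      rw [h1, hze, hx0e, ← mul_assoc, hz2, one_mul]
    rw [← MulAut.mul_apply, ← map_mul, he', map_mul, MulAut.mul_apply, map_mul, MulAut.mul_apply,
      (hB v).mp hv, hzinv, inv_inv])
  have hAB : Nat.card A = Nat.card B := le_antisymm
    (Nat.card_le_card_of_injective (fun v : A => (⟨φ x₀ v, hxA v v.2⟩ : B))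
      fun v w h => Subtype.ext ((φ x₀).injective (congrArg Subtype.val h)))
    (Nat.card_le_card_of_injective (fun v : B => (⟨φ x₀ v, hxB v v.2⟩ : A))
      fun v w h => Subtype.ext ((φ x₀).injective (congrArg Subtype.val h)))
  have hPH : (frattini P).index ≤ 2 * (frattini H).index := by
    refine (index_le_mul hP H).trans (Nat.mul_le_mul_right _ ?_)
    refine Nat.le_of_dvd two_pos ?_
    rw [← hidx, Subgroup.index_eq_card H]
    exact (frattini (P ⧸ H)).index_dvd_card
  obtain ⟨a, b, ha, hb', hle, hc⟩ := split_bound hb hn hodd (hP.to_subgroup H) (φ.comp H.subtype)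
    (hφ.comp H.subtype_injective) A B
    (fun x v hv => (hA _).mpr ((hcomm x ((hHmem x).mp x.2) v).trans (by rw [(hA v).mp hv]; rfl)))
    (fun x v hv => (hB _).mpr ((hcomm x ((hHmem x).mp x.2) v).trans (by rw [(hB v).mp hv, map_inv]; rfl))) hA1 hB1 hABi hABs
  by_cases h3 : 3 < Nat.card A
  · have := ha.2.1 h3; have := hb'.2.1 (hAB ▸ h3)
    nlinarith
  -- `|V| = 9`
  have hA3 : Nat.card A = 3 := by
    obtain ⟨m, hm⟩ : Odd (Nat.card A) := hodd.of_dvd_nat ⟨_, hc.symm⟩
    have := (Subgroup.one_lt_card_iff_ne_bot A).mpr hA1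
    omega
  have hV : Nat.card V = 9 := by rw [← hc, ← hAB, hA3]
  rw [hA3] at ha; rw [← hAB, hA3] at hb'
  -- `H` has order at most four
  have hHcard : Nat.card H ≤ 4 := by
    haveI : Fact (Nat.Prime 3) := ⟨Nat.prime_three⟩
    haveI : IsCyclic A := isCyclic_of_prime_card hA3
    haveI : IsCyclic B := isCyclic_of_prime_card (hAB ▸ hA3)
    have hA' : Nat.card (MulAut A) = 2 := by
      rw [IsCyclic.card_mulAut, hA3]; decide
    have hB' : Nat.card (MulAut B) = 2 := by
      rw [IsCyclic.card_mulAut, ← hAB, hA3]; decide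
    let ψ : H →* MulAut A × MulAut B :=
      (res (φ.comp H.subtype) A (fun x v hv => (hA _).mpr ((hcomm x ((hHmem x).mp x.2) v).trans (by rw [(hA v).mp hv]; rfl)))).prod
      (res (φ.comp H.subtype) B (fun x v hv => (hB _).mpr ((hcomm x ((hHmem x).mp x.2) v).trans (by rw [(hB v).mp hv, map_inv]; rfl))))
    have hψ : Function.Injective ψ := by
      refine (injective_iff_map_eq_one _).mpr fun x hx => Subtype.ext ((map_eq_one_iff φ hφ).mp ?_)
      refine MulEquiv.ext fun v => ?_
      obtain ⟨s, hs, t, ht, rfl⟩ := Subgroup.mem_sup.mp (show v ∈ A ⊔ B by rw [hABs]; trivial)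
      rw [map_mul, MulAut.one_apply]
      exact congrArg₂ (· * ·) (res_eq_one_iff.mp (congrArg Prod.fst hx) s hs) (res_eq_one_iff.mp (congrArg Prod.snd hx) t ht)
    refine (Nat.card_le_card_of_injective ψ hψ).trans ?_
    rw [Nat.card_prod, hA', hB']
  have hP8 : Nat.card P ≤ 8 := by
    rw [← H.card_mul_index, hidx]; omega
  -- `P` is not abelian, so its Frattini subgroup is non-trivial
  have hne : 2 ≤ Nat.card (frattini P) := by
    refine (Subgroup.one_lt_card_iff_ne_bot _).mpr fun h => hx₀ ?_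
    haveI : Group.IsNilpotent P := hP.isNilpotent
    have hm : ⁅x₀, e⁆ ∈ frattini P := Cores.commutator_le_frattini
      (Subgroup.commutator_mem_commutator (Subgroup.mem_top _) (Subgroup.mem_top _))
    rw [h, Subgroup.mem_bot] at hm
    exact commutatorElement_eq_one_iff_mul_comm.mp hm
  have := (frattini P).card_mul_index
  have h4 : (frattini P).index ≤ 4 := by nlinarith
  omega

theorem below : ∀ n, Below.{u} n := by
  intro n
  induction n using Nat.strong_induction_on with
  | _ n ih =>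
    intro P V _ _ _ _ hlt hodd hP φ hφ
    exact bound_of_below (ih (Nat.card V) hlt) le_rfl hodd hP φ hφ

theorem bound {P V : Type u} [Group P] [CommGroup V] [Finite P] [Finite V] (hodd : Odd (Nat.card V))
    (hP : IsPGroup 2 P) (φ : P →* MulAut V) (hφ : Function.Injective φ) :
    Bound (Nat.card V) (frattini P).index :=
  below _ P V (Nat.lt_succ_self _) hodd hP φ hφ

end Cfsg.Agent.TwoGroupRank
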